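import Mathlib.GroupTheory.GroupAction.Jordan
import Mathlib.GroupTheory.GroupAction.Quotient
import Mathlib.GroupTheory.SpecificGroups.Cyclic
import Mathlib.Tactic.Group
import Mathlib.Tactic.Ring

/-!
Elementary lemmas on permutation groups.
-/

namespace Cfsg.Agent.Perm5

open MulAction

variable {G : Type*} [Group G] {α : Type*} [MulAction G α]

/-- A normal subgroup of a transitive faithful group fixing a point is trivial. -/
theorem normal_le_stabilizer_eq_bot [FaithfulSMul G α] [IsPretransitive G α] {N : Subgroup G}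
    (hN : N.Normal) {a : α} (h : N ≤ stabilizer G a) : N = ⊥ := by
  rw [eq_bot_iff]
  intro n hn
  rw [Subgroup.mem_bot]
  refine eq_of_smul_eq_smul fun x : α => ?_
  obtain ⟨g, rfl⟩ := exists_smul_eq G a x
  have : (g⁻¹ * n * g) • a = a := h (by simpa using hN.conj_mem n hn g⁻¹)
  rw [mul_smul, mul_smul, inv_smul_eq_iff] at this
  rw [one_smul, this]

/-- In a primitive group two distinct points with the same stabilizer force regularity. -/
theorem stabilizer_eq_bot_of_eq [FaithfulSMul G α] [IsPreprimitive G α] {a b : α} (hab : a ≠ b)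
    (h : stabilizer G a = stabilizer G b) :
    stabilizer G a = ⊥ ∧ IsCyclic G ∧ (Nat.card G).Prime ∧ Nat.card α = Nat.card G := by
  haveI : Nontrivial α := ⟨⟨a, b, hab⟩⟩
  obtain ⟨g, hg⟩ := exists_smul_eq G a b
  have hco : IsCoatom (stabilizer G a) := IsPreprimitive.isCoatom_stabilizer_of_isPreprimitive G a
  have hle : stabilizer G a ≤ Subgroup.normalizer (stabilizer G a : Set G) := Subgroup.le_normalizer
  have hgn : g ∈ Subgroup.normalizer (stabilizer G a : Set G) := by
    rw [Subgroup.mem_normalizer_iff]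
    intro x
    conv_rhs => rw [h]
    rw [mem_stabilizer_iff, mem_stabilizer_iff, mul_smul, mul_smul,
      show g⁻¹ • b = a by rw [← hg, inv_smul_smul]]
    exact ⟨fun e => by rw [e, hg], fun e => by rwa [← hg, smul_left_cancel_iff] at e⟩
  have hgs : g ∉ stabilizer G a := fun e => hab (by rw [← hg]; exact (e : g • a = a).symm)
  have htop : Subgroup.normalizer (stabilizer G a : Set G) = ⊤ :=
    hco.2 _ (lt_of_le_of_ne hle fun e => hgs (e ▸ hgn))
  haveI hn : (stabilizer G a).Normal := Subgroup.normalizer_eq_top_iff.1 htop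
  have hbot := normal_le_stabilizer_eq_bot (α := α) hn le_rfl
  have hall : ∀ K : Subgroup G, K = ⊥ ∨ K = ⊤ := fun K => by
    rcases eq_or_ne K ⊥ with hk | hk
    · exact Or.inl hk
    · exact Or.inr (hco.2 K (by rw [hbot]; exact bot_lt_iff_ne_bot.2 hk))
  haveI : Nontrivial G := ⟨⟨g, 1, fun e => hgs (e ▸ Subgroup.one_mem _)⟩⟩
  have hg1 : g ≠ 1 := fun e => hgs (e ▸ Subgroup.one_mem _)
  have hcyc : IsCyclic G := by
    refine ⟨g, fun x => ?_⟩
    show x ∈ Subgroup.zpowers g
    rw [(hall (Subgroup.zpowers g)).resolve_left (by simpa [Subgroup.zpowers_eq_bot] using hg1)]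
    exact Subgroup.mem_top x
  letI := hcyc.commGroup
  haveI : IsSimpleGroup G := ⟨fun K _ => hall K⟩
  refine ⟨hbot, hcyc, IsSimpleGroup.prime_card, ?_⟩
  refine (Nat.card_eq_of_bijective (fun x : G => x • a) ⟨fun x y e => ?_, exists_smul_eq G a⟩).symm
  have : y⁻¹ * x ∈ stabilizer G a := by
    rw [mem_stabilizer_iff, mul_smul, inv_smul_eq_iff]; exact e
  rw [hbot, Subgroup.mem_bot, inv_mul_eq_one] at this
  exact this.symm

/-- Jordan: a finite transitive group on at least two points has a derangement. -/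
theorem exists_derangement [Finite G] [Finite α] [IsPretransitive G α] [Nontrivial α] :
    ∃ g : G, ∀ x : α, g • x ≠ x := by
  classical
  by_contra! hcon
  haveI : Fintype G := Fintype.ofFinite G
  haveI : Fintype α := Fintype.ofFinite α
  obtain ⟨a, b, hab⟩ := exists_pair_ne α
  haveI : Nonempty α := ⟨a⟩
  have h1 : Fintype.card (orbitRel.Quotient G α) = 1 :=
    le_antisymm (Fintype.card_le_one_iff_subsingleton.2 ((pretransitive_iff_subsingleton_quotient G α).1 inferInstance))
      (Fintype.card_pos_iff.2 ⟨Quotient.mk'' a⟩)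
  have h := sum_card_fixedBy_eq_card_orbits_mul_card_group G α
  rw [h1, one_mul] at h
  have h2 : ∑ _g : G, 1 < ∑ g : G, Fintype.card (fixedBy α g) := by
    apply Finset.sum_lt_sum
    · intro g _
      obtain ⟨x, hx⟩ := hcon g
      exact Fintype.card_pos_iff.2 ⟨⟨x, hx⟩⟩
    · refine ⟨1, Finset.mem_univ _, Fintype.one_lt_card_iff.2 ⟨⟨a, by simp⟩, ⟨b, by simp⟩, by simpa using hab⟩⟩
  rw [Finset.sum_const, Finset.card_univ, smul_eq_mul, mul_one, h] at h2
  exact lt_irrefl _ h2

/-- If all elements agree on a base, extending transitivity through a point stabilizer. -/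
theorem isMultiplyPretransitive_add [Finite α] {m j : ℕ} (hm : IsMultiplyPretransitive G α m)
    {s : Set α} (hs : s.ncard = m)
    (hj : IsMultiplyPretransitive (fixingSubgroup G s) (SubMulAction.ofFixingSubgroup G s) j) :
    IsMultiplyPretransitive G α (m + j) := by
  have e : Nonempty (Fin m ≃ s) := Finite.card_eq.mp (by simp [Nat.card_coe_set_eq, hs])
  obtain ⟨e⟩ := e
  let u : Fin m ↪ α := e.toEmbedding.trans (Function.Embedding.subtype _)
  suffices hh : ∀ x : Fin (m + j) ↪ α, ∃ g : G, ∃ x' : Fin j ↪ SubMulAction.ofFixingSubgroup G s,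
      (∀ i : Fin m, g • x (Fin.castAdd j i) = u i) ∧ ∀ i : Fin j, g • x (Fin.natAdd m i) = x' i by
    constructor
    intro x y
    obtain ⟨g, x', hg1, hg2⟩ := hh x
    obtain ⟨k, y', hk1, hk2⟩ := hh y
    obtain ⟨⟨h, hmem⟩, hh'⟩ := hj.exists_smul_eq x' y'
    refine ⟨k⁻¹ * h * g, Function.Embedding.ext fun i => ?_⟩
    rw [Function.Embedding.smul_apply, mul_smul, mul_smul, inv_smul_eq_iff]
    refine Fin.addCases (fun i => ?_) (fun i => ?_) i
    · rw [hg1, hk1]
      exact (mem_fixingSubgroup_iff G).1 hmem _ (e i).2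
    · rw [hg2, hk2]
      exact congrArg Subtype.val (congrArg (fun f : Fin j ↪ _ => f i) hh')
  intro x
  obtain ⟨g, hg⟩ := hm.exists_smul_eq ((Fin.castAddEmb j).trans x) u
  have hg' : ∀ i : Fin m, g • x (Fin.castAdd j i) = u i := fun i => congrArg (fun f : Fin m ↪ α => f i) hg
  refine ⟨g, ⟨fun i => ⟨g • x (Fin.natAdd m i), ?_⟩, ?_⟩, hg', fun i => rfl⟩
  · intro hmem
    have : g • x (Fin.natAdd m i) = u (e.symm ⟨_, hmem⟩) := by simp [u]
    rw [← hg', smul_left_cancel_iff] at this
    have := congrArg Fin.val (x.injective this)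
    simp at this
    omega
  · intro i i' h
    simpa using x.injective (MulAction.injective g (congrArg Subtype.val h))

end Cfsg.Agent.Perm5
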